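import Cfsg.Agent.C1M.Main

/-! The Suzuki group and the Hall–Janko group as sections of `Co0`. -/

set_option autoImplicit false

namespace Cfsg.Agent.C1M

open Cfsg Cfsg.Spor Subgroup XSC.C1

theorem exists_section {p : ℕ} (hp : p.Prime) (h2 : p ≠ 2) {t : Co1} (ht : orderOf t = p) {S : Type*} [Group S]
    (f : centralizer (zpowers t : Set Co1) →* S) (hf : Function.Surjective f)
    (hk : f.ker = (zpowers t).subgroupOf _) :
    ∃ A : Subgroup Co0, Nat.card A = p ∧ ∃ _ : ((A ⊔ center Co0).subgroupOf (centralizer (A : Set Co0))).Normal,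
      Nonempty (S ≃* centralizer (A : Set Co0) ⧸ (A ⊔ center Co0).subgroupOf _) := by
  have h := ker2_comp (.id Co1) fun _ _ h => h
  obtain ⟨x, rfl, h3⟩ : ∃ x, QuotientGroup.mk' (center Co0) x = t ∧ orderOf x = p := by
    obtain ⟨x, rfl⟩ := QuotientGroup.mk'_surjective _ t
    exact h.exists_lift hp h2 ht
  have c : ∀ {G : Type} [Group G] {x g : G}, g ∈ centralizer (zpowers x : Set G) ↔ Commute x g := by
    intro G _ x g
    rw [zpowers_eq_closure, centralizer_closure, mem_centralizer_singleton_iff, eq_comm]; rfl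
  let g := ((QuotientGroup.mk' (center Co0)).domRestrict (centralizer (zpowers x : Set Co0))).codRestrict
    (centralizer (zpowers (QuotientGroup.mk' (center Co0) x) : Set Co1)) fun a => c.2 ((c.1 a.2).map _)
  have h4 : Function.Surjective g := fun b => by
    obtain ⟨y, hy⟩ := QuotientGroup.mk'_surjective _ b.1
    exact ⟨⟨y, c.2 (h.commute (h3 ▸ hp.odd_of_ne_two h2) (hy ▸ c.1 b.2 :))⟩, Subtype.ext hy⟩
  have h5 : (f.comp g).ker = (zpowers x ⊔ center Co0).subgroupOf _ := by
    have := comap_map_eq (QuotientGroup.mk' (center Co0)) (zpowers x)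
    rw [QuotientGroup.ker_mk', MonoidHom.map_zpowers] at this
    rw [← MonoidHom.comap_ker, hk, ← this]
    rfl
  have : ((zpowers x ⊔ center Co0).subgroupOf (centralizer (zpowers x : Set Co0))).Normal := h5 ▸ inferInstance
  exact ⟨zpowers x, by rw [Nat.card_zpowers, h3], this, ⟨(QuotientGroup.quotientKerEquivOfSurjective (f.comp g)
    (hf.comp h4)).symm.trans (QuotientGroup.quotientMulEquivOfEq h5)⟩⟩

theorem finite_Co1 : Finite Co1 := Nat.finite_of_card_ne_zero (by rw [Spor.Leech.card_Co1]; norm_num)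

theorem section_suz : ∃ A : Subgroup Co0, Nat.card A = 3 ∧
    ∃ _ : ((A ⊔ center Co0).subgroupOf (centralizer (A : Set Co0))).Normal,
      Nonempty (Suz ≃* centralizer (A : Set Co0) ⧸ (A ⊔ center Co0).subgroupOf _) := by
  have := finite_Co1
  have : ((zpowers (yy (.refl _) 7)).subgroupOf (centralizer (zpowers (yy (.refl _) 7) : Set Co1))).Normal :=
    ⟨fun a ha g => by rw [← show a * g = g * a from Subtype.ext (g.2 _ ha), mul_inv_cancel_right]; exact ha⟩
  obtain ⟨-, ⟨e⟩⟩ := suz (.refl _) rfl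
  exact exists_section Nat.prime_three (by norm_num) (ord7 _) (e.toMonoidHom.comp (QuotientGroup.mk' _))
    (e.surjective.comp (QuotientGroup.mk'_surjective _))
    (by rw [MonoidHom.ker_comp_of_injective _ _ e.injective, QuotientGroup.ker_mk'])

theorem section_j2 : ∃ A : Subgroup Co0, Nat.card A = 5 ∧
    ∃ _ : ((A ⊔ center Co0).subgroupOf (centralizer (A : Set Co0))).Normal,
      Nonempty (J2 ≃* centralizer (A : Set Co0) ⧸ (A ⊔ center Co0).subgroupOf _) := by
  have := finite_Co1
  have := Spor.ModelJ2.isSimpleGroup_J2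
  obtain ⟨-, -, ⟨e⟩⟩ := j2 (.refl _) rfl
  have h : Function.Surjective ((MonoidHom.snd _ _).comp e.toMonoidHom) := Prod.snd_surjective.comp e.surjective
  refine exists_section Nat.prime_five (by norm_num) (ord10 _) _ h (eq_of_le_of_card_ge (fun a ha => ?_) ?_).symm
  · rw [MonoidHom.mem_ker, ← mem_bot, ← center_eq_bot_of_simple (not_comm_of_card
      (by rw [Spor.ModelJ2.card_J2]; norm_num)), mem_center_iff]
    intro b
    obtain ⟨b, rfl⟩ := h b
    rw [← map_mul, ← map_mul, show a * b = b * a from Subtype.ext (b.2 _ ha)]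
  · have a := card_mul_index ((MonoidHom.snd _ _).comp e.toMonoidHom).ker
    rw [index_ker, MonoidHom.range_eq_top.2 h, card_top, Nat.card_congr e.toEquiv, Nat.card_prod,
      Spor.ModelJ2.card_J2] at a
    rw [Nat.card_congr (subgroupOfEquivOfLe (zpowers_le_cent _)).toEquiv]
    omega

end Cfsg.Agent.C1M
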